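import Cfsg.Agent.CosetEnum.HeSp.Lower
import Cfsg.Agent.CosetEnum.HeOrder.Order
import Cfsg.Agent.Forms.SymplecticOrder
import Cfsg.Agent.SporB.FFour

set_option autoImplicit false
set_option maxRecDepth 100000
set_option exponentiation.threshold 200000

/-! The point stabiliser of the presented Held group has a subgroup of index two isomorphic to Sp4(4). -/

namespace CfsgLib.CosetEnum.HeSp

open CfsgLib.SporB Matrix

/-- Vectors. -/
abbrev V := Fin 2 ⊕ Fin 2 → FFour

/-- Coordinates as a number less than four. -/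
def pos : Fin 2 ⊕ Fin 2 → ℕ
  | .inl i => i.val
  | .inr i => 2 + i.val

/-- The representative vector of a projective point. -/
def pt (b : Fin 85) : V := fun i => FFour.ofCode ((ptList.getD b.val []).getD (pos i) 0)

/-- The code of a vector. -/
def vcode (v : V) : ℕ :=
  (v (.inl 0)).code + 4 * (v (.inl 1)).code + 16 * (v (.inr 0)).code + 64 * (v (.inr 1)).code

/-- The projective point of a vector. -/
def ptIdx (v : V) : ℕ := ext idxTab (vcode v)

theorem ptIdx_smul_pt : ∀ (c : FFour) (b : Fin 85), c ≠ 0 → ptIdx (c • pt b) = b.val := by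
  decide +kernel

/-- `M` induces the permutation `q` of projective points. -/
def Induces (M : Matrix (Fin 2 ⊕ Fin 2) (Fin 2 ⊕ Fin 2) FFour) (q : Equiv.Perm (Fin 85)) : Prop :=
  ∀ b, ∃ c : FFour, c ≠ 0 ∧ M *ᵥ pt b = c • pt (q b)

theorem Induces.perm_unique {M : Matrix (Fin 2 ⊕ Fin 2) (Fin 2 ⊕ Fin 2) FFour} {q q' : Equiv.Perm (Fin 85)}
    (h : Induces M q) (h' : Induces M q') : q = q' := by
  ext b
  obtain ⟨c, hc, e⟩ := h b
  obtain ⟨c', hc', e'⟩ := h' b
  rw [← ptIdx_smul_pt c (q b) hc, ← e, e', ptIdx_smul_pt c' (q' b) hc']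

theorem Induces.mul {M M' : Matrix (Fin 2 ⊕ Fin 2) (Fin 2 ⊕ Fin 2) FFour} {q q' : Equiv.Perm (Fin 85)}
    (h : Induces M q) (h' : Induces M' q') : Induces (M * M') (q * q') := fun b => by
  obtain ⟨c', hc', e'⟩ := h' b
  obtain ⟨c, hc, e⟩ := h (q' b)
  refine ⟨c' * c, mul_ne_zero hc' hc, ?_⟩
  rw [← mulVec_mulVec, e', mulVec_smul, e, smul_smul]
  rfl

theorem Induces.one : Induces 1 1 := fun b => ⟨1, one_ne_zero, by simp⟩

theorem basis_pts : ∀ i : Fin 2 ⊕ Fin 2, ∃ b, pt b = Pi.single i 1 := by decide +kernel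

theorem ones_pt : ∃ b, pt b = fun _ => (1 : FFour) := by decide +kernel

/-- A symplectic matrix fixing all points is the identity. -/
theorem eq_one_of_induces {M : Matrix (Fin 2 ⊕ Fin 2) (Fin 2 ⊕ Fin 2) FFour}
    (hM : M ∈ Matrix.symplecticGroup (Fin 2) FFour) (h : Induces M 1) : M = 1 := by
  have hdiag : ∀ i, ∃ c : FFour, ∀ j, M j i = c * (Pi.single i (1 : FFour) : V) j := by
    intro i
    obtain ⟨b, hb⟩ := basis_pts i
    obtain ⟨c, -, e⟩ := h b
    refine ⟨c, fun j => ?_⟩
    have := congrFun e j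
    rw [hb, Equiv.Perm.one_apply, hb, mulVec_single_one] at this
    exact this
  choose c hc using hdiag
  obtain ⟨b, hb⟩ := ones_pt
  obtain ⟨d, -, e⟩ := h b
  have hcd : ∀ j, c j = d := fun j => by
    have := congrFun e j
    rw [Equiv.Perm.one_apply, hb] at this
    simp only [mulVec, dotProduct, mul_one, Pi.smul_apply, smul_eq_mul] at this
    rw [← this, Finset.sum_eq_single j (fun i _ hij => by rw [hc i j, Pi.single_eq_of_ne (Ne.symm hij), mul_zero])
      (fun hj => absurd (Finset.mem_univ j) hj), hc j j, Pi.single_eq_same, mul_one]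
  have hMd : M = d • (1 : Matrix (Fin 2 ⊕ Fin 2) (Fin 2 ⊕ Fin 2) FFour) := by
    ext j i
    rw [hc i j, hcd i]
    by_cases hji : j = i
    · subst hji; simp
    · simp [hji]
  have hmem := SymplecticGroup.mem_iff.mp hM
  rw [hMd] at hmem
  simp only [smul_mul_assoc, one_mul, transpose_smul, transpose_one, mul_smul_comm, mul_one, smul_smul] at hmem
  have h01 := congrFun (congrFun hmem (.inl 0)) (.inr 0)
  simp [Matrix.J] at h01
  have key : ∀ d : FFour, d * d = 1 → d = 1 := by decide
  rw [hMd, key d h01, one_smul]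

/-- The permutations induced by symplectic matrices. -/
def inducedSubgroup : Submonoid (Equiv.Perm (Fin 85)) where
  carrier := {q | ∃ M ∈ Matrix.symplecticGroup (Fin 2) FFour, Induces M q}
  one_mem' := ⟨1, one_mem _, Induces.one⟩
  mul_mem' := fun ⟨M, hM, h⟩ ⟨M', hM', h'⟩ => ⟨M * M', mul_mem hM hM', h.mul h'⟩

/-- A matrix from a list of rows. -/
def matOf (L : List (List ℕ)) : Matrix (Fin 2 ⊕ Fin 2) (Fin 2 ⊕ Fin 2) FFour :=
  Matrix.of fun i j => FFour.ofCode ((L.getD (pos i) []).getD (pos j) 0)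

/-- A packed table of permutations of points agrees with a matrix. -/
def matchesTab (L : List (List ℕ)) (f : ℕ → ℕ) : Bool :=
  decide (∀ b : Fin 85, ∃ c : FFour, c ≠ 0 ∧ ∃ b' : Fin 85, b'.val = f b.val ∧ matOf L *ᵥ pt b = c • pt b') &&
    decide (matOf L * Matrix.J (Fin 2) FFour * (matOf L)ᵀ = Matrix.J (Fin 2) FFour)

theorem mem_induced_of_matches {L : List (List ℕ)} {f : ℕ → ℕ} (h : matchesTab L f = true)
    {q : Equiv.Perm (Fin 85)} (hq : ∀ b, (q b).val = f b.val) : q ∈ inducedSubgroup := by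
  simp only [matchesTab, Bool.and_eq_true, decide_eq_true_eq] at h
  refine ⟨matOf L, SymplecticGroup.mem_iff.mpr h.2, fun b => ?_⟩
  obtain ⟨c, hc, b', hb', e⟩ := h.1 b
  exact ⟨c, hc, by rw [e, show q b = b' from Fin.ext ((hq b).trans hb'.symm)]⟩

theorem lin_ok : ([0, 1, 2, 3, 4, 6] : List ℕ).all (fun s =>
    matchesTab (linList.getD s []) (ext (gTab s))) = true := by decide +kernel

theorem conj_ok : ([0, 1, 2, 3, 4, 6] : List ℕ).all (fun s =>
    matchesTab (conjList.getD s []) (fun b => ext (gTab 5) (ext (gTab s) (ext (gTab 5) b)))) = true := by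
  decide +kernel

/-- The block map is compatible with a generator. -/
noncomputable def blkEntry (s i : ℕ) : Bool :=
  bif Nat.blt i 2058 then
    (bif Nat.blt (ext blkTab i) 85 then
      Nat.beq (ext blkTab (walk HeH.enum.tb (HeH.enum.sW.getD s []).reverse i)) (ext (gTab s) (ext blkTab i))
    else true)
  else true

theorem blk_ok : (List.range 7).all (fun s => allR (blkEntry s) 12 0) = true := by decide +kernel

theorem rep_ok : ∀ b : Fin 85, ext blkTab (ext repTab b.val) = b.val ∧ ext repTab b.val < 2058 := by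
  decide +kernel

theorem gTab_lt : ∀ s : Fin 7, ∀ b : Fin 85, ext (gTab s) b.val < 85 := by decide +kernel

theorem gens_inv : ∀ s : Fin 7, ∀ b : Fin 85,
    ext (gTab s) (ext (gTab s) (ext (gTab s) b.val)) = b.val ∨ ext (gTab s) (ext (gTab s) b.val) = b.val := by
  decide +kernel

theorem gTab_injective : ∀ s : Fin 7, ∀ b b' : Fin 85, ext (gTab s) b.val = ext (gTab s) b'.val → b = b' := by
  decide +kernel

/-- The permutation of a generator. -/
noncomputable def gPerm (s : Fin 7) : Equiv.Perm (Fin 85) :=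
  Equiv.ofBijective (fun b => ⟨ext (gTab s) b.val, gTab_lt s b⟩)
    (Finite.injective_iff_bijective.mp fun b b' h => gTab_injective s b b' (congrArg Fin.val h))

theorem gPerm_val (s : Fin 7) (b : Fin 85) : (gPerm s b).val = ext (gTab s) b.val := rfl

/-- The word of a generator, as an element. -/
noncomputable abbrev hgen (s : ℕ) : He.setup.Grp := prodw He.setup.g (HeH.enum.sW.getD s [])

theorem sW_lt_seven (s : ℕ) (x : ℕ) (hx : x ∈ HeH.enum.sW.getD s []) : x < He.setup.k := by
  by_cases hs : s < HeH.enum.sW.length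
  · rw [List.getD_eq_getElem _ _ hs] at hx
    exact HeH.enum.sW_lt _ (List.getElem_mem hs) x hx
  · rw [List.getD_eq_default _ _ (Nat.le_of_not_lt hs)] at hx
    simp at hx

theorem hgen_inv (s : ℕ) : prodw He.setup.g (HeH.enum.sW.getD s []).reverse = (hgen s)⁻¹ := by
  simp only [hgen, prodw, List.map_reverse, List.prod_inv_reverse, List.map_map]
  congr 2
  refine List.map_congr_left fun x hx => ?_
  exact He.setup.hiv x (sW_lt_seven s x hx) (sW_lt_seven s x hx)

variable (φ : He.setup.Grp →* Equiv.Perm (Fin HeH.enum.n))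

/-- `y` induces `q` on blocks. -/
def Acts (y : He.setup.Grp) (q : Equiv.Perm (Fin 85)) : Prop :=
  ∀ i : Fin HeH.enum.n, ∀ b : Fin 85, ext blkTab i.val = b.val → ext blkTab (φ y i).val = (q b).val

variable {φ}

theorem Acts.unique {y : He.setup.Grp} {q q' : Equiv.Perm (Fin 85)} (h : Acts φ y q) (h' : Acts φ y q') :
    q = q' := by
  refine Equiv.ext fun b => Fin.ext ?_
  rw [← h ⟨ext repTab b.val, (rep_ok b).2⟩ b (rep_ok b).1, h' ⟨ext repTab b.val, (rep_ok b).2⟩ b (rep_ok b).1]

theorem Acts.mul {y y' : He.setup.Grp} {q q' : Equiv.Perm (Fin 85)} (h : Acts φ y q) (h' : Acts φ y' q') :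
    Acts φ (y * y') (q * q') := fun i b hb => by
  rw [map_mul, Equiv.Perm.mul_apply, Equiv.Perm.mul_apply]
  exact h _ _ (h' i b hb)

theorem Acts.one : Acts φ 1 1 := fun i b hb => by
  rw [map_one, Equiv.Perm.one_apply, Equiv.Perm.one_apply]; exact hb

theorem Acts.pow {y : He.setup.Grp} {q : Equiv.Perm (Fin 85)} (h : Acts φ y q) :
    ∀ m : ℕ, Acts φ (y ^ m) (q ^ m) := fun m => by
  induction m with
  | zero => rw [pow_zero, pow_zero]; exact Acts.one
  | succ m ih => rw [pow_succ, pow_succ]; exact ih.mul h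

theorem acts_hgen (hφ : ∀ (w : List ℕ), (∀ x ∈ w, x < He.setup.k) → ∀ i : Fin HeH.enum.n,
      ((φ (prodw He.setup.g w))⁻¹ i).val = walk HeH.enum.tb w i) (s : Fin 7) :
    Acts φ (hgen s) (gPerm s) := fun i b hb => by
  have hi : i.val < 2058 := i.2
  have hblk := List.all_eq_true.mp blk_ok s.val (List.mem_range.mpr s.2)
  have h1 := allR_spec 12 0 hblk i.val (Nat.zero_le _) (by omega)
  unfold blkEntry at h1
  rw [show Nat.blt i.val 2058 = true by simpa using hi] at h1
  simp only [cond_true] at h1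
  rw [show Nat.blt (ext blkTab i.val) 85 = true by simpa [hb] using b.2] at h1
  simp only [cond_true] at h1
  have h2 : (φ (hgen s) i).val = walk HeH.enum.tb (HeH.enum.sW.getD s.val []).reverse i := by
    rw [← hφ _ (fun x hx => sW_lt_seven s.val x (List.mem_reverse.mp hx)) i, hgen_inv, map_inv, inv_inv]
  rw [h2, Nat.eq_of_beq_eq_true h1, gPerm_val, hb]

/-- The index-two subgroup. -/
theorem exists_spFour :
    ∃ (N : Subgroup HeH.enum.H), N.Normal ∧ N.index = 2 ∧
      Nonempty (N ≃* Matrix.symplecticGroup (Fin 2) FFour) := by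
  classical
  obtain ⟨φ, e, hφ, he, he0, hinj, hG⟩ := He.order_and_action
  haveI := He.finite_grp
  have hHcard : Nat.card HeH.enum.H = 1958400 := by
    have h := Subgroup.card_eq_card_quotient_mul_card_subgroup HeH.enum.H
    rw [hG, Nat.card_congr e, Nat.card_fin] at h
    have h2 : HeH.enum.n = 2058 := rfl
    rw [h2] at h
    omega
  have hact : ∀ y ∈ HeH.enum.H, ∃ q, Acts φ y q := by
    intro y hy
    induction hy using Subgroup.closure_induction'' with
    | mem y hy =>
      obtain ⟨s, hs, rfl⟩ := hy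
      exact ⟨gPerm ⟨s, hs⟩, acts_hgen hφ ⟨s, hs⟩⟩
    | inv_mem y hy =>
      obtain ⟨s, hs, rfl⟩ := hy
      obtain ⟨m, hm⟩ : ∃ m : ℕ, (hgen s)⁻¹ = hgen s ^ m :=
        ⟨orderOf (hgen s) - 1, inv_eq_of_mul_eq_one_right (by
          rw [← pow_succ', Nat.sub_add_cancel (orderOf_pos _), pow_orderOf_eq_one])⟩
      exact ⟨gPerm ⟨s, hs⟩ ^ m, hm ▸ (acts_hgen hφ ⟨s, hs⟩).pow m⟩
    | one => exact ⟨1, Acts.one⟩
    | mul y y' _ _ h h' =>
      obtain ⟨q, hq⟩ := h
      obtain ⟨q', hq'⟩ := h'
      exact ⟨q * q', hq.mul hq'⟩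
  choose ψf hψf using hact
  let ψ : HeH.enum.H →* Equiv.Perm (Fin 85) :=
    { toFun := fun y => ψf y y.2
      map_one' := (hψf _ (one_mem _)).unique Acts.one
      map_mul' := fun y y' => (hψf _ (y * y').2).unique ((hψf _ y.2).mul (hψf _ y'.2)) }
  have hsl : HeH.enum.sW.length = 7 := rfl
  let G' : Fin 7 → HeH.enum.H := fun s =>
    ⟨hgen s, Subgroup.subset_closure ⟨s.val, (show s.val < HeH.enum.sW.length by omega), rfl⟩⟩
  have hψG : ∀ s, ψ (G' s) = gPerm s := fun s => (hψf _ (G' s).2).unique (acts_hgen hφ s)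
  have himg : ∀ s, s < 7 → IsImg ψ (gTab s) := fun s hs => by
    refine ⟨(G' ⟨s, hs⟩)⁻¹, fun i => ?_⟩
    rw [map_inv, inv_inv, hψG, gPerm_val]
  have hinjψ : Function.Injective ψ :=
    (card_eq_and_injective (φ := ψ) hHcard.le (card_range_ge_order ψ himg)).2
  let N0 : Submonoid HeH.enum.H := inducedSubgroup.comap ψ
  let N : Subgroup HeH.enum.H :=
    { toSubmonoid := N0
      inv_mem' := by
        intro y hy
        rw [inv_eq_of_mul_eq_one_right (show y * y ^ (orderOf y - 1) = 1 by
          rw [← pow_succ', Nat.sub_add_cancel (orderOf_pos _), pow_orderOf_eq_one])]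
        exact N0.pow_mem hy _ }
  have hNmem : ∀ y, y ∈ N ↔ ψ y ∈ inducedSubgroup := fun y => Iff.rfl
  set t := G' 5 with ht
  have htt : t * t = 1 := hinjψ (by
    rw [map_mul, map_one, hψG]
    exact Equiv.ext fun b => Fin.ext ((by decide +kernel :
      ∀ b : Fin 85, ext (gTab 5) (ext (gTab 5) b.val) = b.val) b))
  have hlin : ∀ s : Fin 7, s ≠ 5 → G' s ∈ N ∧ t * G' s * t ∈ N := by
    intro s hs
    have hmem : s.val ∈ ([0, 1, 2, 3, 4, 6] : List ℕ) := by revert s; decide
    refine ⟨(hNmem _).mpr ?_, (hNmem _).mpr ?_⟩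
    · exact mem_induced_of_matches (List.all_eq_true.mp lin_ok _ hmem) fun b => by rw [hψG, gPerm_val]
    · refine mem_induced_of_matches (List.all_eq_true.mp conj_ok _ hmem) fun b => ?_
      rw [map_mul, map_mul, hψG, hψG, Equiv.Perm.mul_apply, Equiv.Perm.mul_apply, gPerm_val, gPerm_val,
        gPerm_val]
      rfl
  have hstep : ∀ (y : HeH.enum.H) (s : Fin 7), (y ∈ N ∨ y * t ∈ N) → (y * G' s ∈ N ∨ y * G' s * t ∈ N) := by
    intro y s h
    by_cases hs : s = 5
    · subst hs
      rw [← ht, mul_assoc, htt, mul_one]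
      exact h.symm
    · rcases h with h | h
      · exact Or.inl (N.mul_mem h (hlin s hs).1)
      · refine Or.inr ?_
        have := N.mul_mem h (hlin s hs).2
        rwa [show y * t * (t * G' s * t) = y * (t * t) * G' s * t by group, htt, mul_one] at this
  have hor : ∀ y : HeH.enum.H, y ∈ N ∨ y * t ∈ N := by
    have key : ∀ (y : He.setup.Grp) (hy : y ∈ HeH.enum.H),
        (⟨y, hy⟩ : HeH.enum.H) ∈ N ∨ (⟨y, hy⟩ : HeH.enum.H) * t ∈ N := by
      intro y hy
      induction hy using Subgroup.closure_induction_right with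
      | one => exact Or.inl N.one_mem
      | mul_right y hy g hg ih =>
        obtain ⟨s, hs, rfl⟩ := hg
        exact hstep ⟨y, hy⟩ ⟨s, hs⟩ ih
      | mul_inv_cancel y hy g hg ih =>
        obtain ⟨s, hs, rfl⟩ := hg
        set v : HeH.enum.H := ⟨y, hy⟩
        have hpow : ∀ m : ℕ, v * G' ⟨s, hs⟩ ^ m ∈ N ∨ v * G' ⟨s, hs⟩ ^ m * t ∈ N := by
          intro m
          induction m with
          | zero => simpa using ih
          | succ m ihm => rw [pow_succ, ← mul_assoc]; exact hstep _ _ ihm
        have h1 := hpow (orderOf (G' ⟨s, hs⟩) - 1)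
        rw [← inv_eq_of_mul_eq_one_right (show G' ⟨s, hs⟩ * G' ⟨s, hs⟩ ^ (orderOf (G' ⟨s, hs⟩) - 1) = 1 by
          rw [← pow_succ', Nat.sub_add_cancel (orderOf_pos _), pow_orderOf_eq_one])] at h1
        exact h1
    exact fun y => key y y.2
  -- the matrices
  have hchoice : ∀ y : N, ∃ M : Matrix.symplecticGroup (Fin 2) FFour, Induces M.1 (ψ y) := fun y => by
    obtain ⟨M, hM, h⟩ := (hNmem _).mp y.2
    exact ⟨⟨M, hM⟩, h⟩
  have hunique : ∀ (M M' : Matrix.symplecticGroup (Fin 2) FFour) (q : Equiv.Perm (Fin 85)),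
      Induces M.1 q → Induces M'.1 q → M = M' := by
    intro M M' q h h'
    have hone : ∀ A : Matrix.symplecticGroup (Fin 2) FFour, Induces A.1 1 → A = 1 := fun A hA =>
      Subtype.ext (eq_one_of_induces A.2 hA)
    obtain ⟨q', hq'⟩ : ∃ q', Induces (M'⁻¹).1 q' := by
      obtain ⟨m, hm⟩ : ∃ m : ℕ, M'⁻¹ = M' ^ m :=
        ⟨orderOf M' - 1, inv_eq_of_mul_eq_one_right (by
          rw [← pow_succ', Nat.sub_add_cancel (orderOf_pos _), pow_orderOf_eq_one])⟩
      refine ⟨q ^ m, ?_⟩
      rw [hm]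
      clear hm
      induction m with
      | zero => simpa using Induces.one
      | succ m ihm =>
        rw [pow_succ, pow_succ]
        exact ihm.mul h'
    have hq1 : q' * q = 1 := by
      refine (hq'.mul h').perm_unique ?_
      have : (M'⁻¹).1 * M'.1 = 1 := congrArg Subtype.val (inv_mul_cancel M')
      rw [this]
      exact Induces.one
    have h2 := hone (M'⁻¹ * M) (by
      have := hq'.mul h
      rwa [hq1] at this)
    exact (inv_mul_eq_one.mp h2).symm
  choose Mf hMf using hchoice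
  let f : N →* Matrix.symplecticGroup (Fin 2) FFour :=
    { toFun := Mf
      map_one' := hunique _ _ _ (hMf 1) (by
        rw [Subgroup.coe_one, map_one]; exact Induces.one)
      map_mul' := fun y y' => hunique _ _ _ (hMf (y * y')) (by
        rw [Subgroup.coe_mul, map_mul]; exact (hMf y).mul (hMf y')) }
  have hfinj : Function.Injective f := fun y y' hy => Subtype.ext (hinjψ ((hMf y).perm_unique (by
    have : Mf y = Mf y' := hy
    rw [this]; exact hMf y')))
  have hSp : Nat.card (Matrix.symplecticGroup (Fin 2) FFour) = 979200 := by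
    rw [CfsgLib.Forms.card_symplecticGroup, FFour.card_eq]
    decide
  have hidx : N.index = 2 := by
    rw [Subgroup.index_eq_two_iff]
    refine ⟨t, fun y => ?_⟩
    rcases hor y with h | h
    · refine Or.inr ⟨h, fun h2 => ?_⟩
      have htN : t ∈ N := by simpa using N.mul_mem (N.inv_mem h) h2
      have htop : N = ⊤ := eq_top_iff.mpr fun u _ => by
        rcases hor u with hu | hu
        · exact hu
        · simpa using N.mul_mem hu (N.inv_mem htN)
      have := Nat.card_le_card_of_injective f hfinj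
      rw [hSp, htop, Subgroup.card_top, hHcard] at this
      omega
    · refine Or.inl ⟨h, fun h2 => ?_⟩
      have htN : t ∈ N := by simpa using N.mul_mem (N.inv_mem h2) h
      have htop : N = ⊤ := eq_top_iff.mpr fun u _ => by
        rcases hor u with hu | hu
        · exact hu
        · simpa using N.mul_mem hu (N.inv_mem htN)
      have := Nat.card_le_card_of_injective f hfinj
      rw [hSp, htop, Subgroup.card_top, hHcard] at this
      omega
  refine ⟨N, Subgroup.normal_of_index_eq_two hidx, hidx, ⟨MulEquiv.ofBijective f ?_⟩⟩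
  refine (Nat.bijective_iff_injective_and_card f).mpr ⟨hfinj, ?_⟩
  have h := Subgroup.card_mul_index N
  rw [hidx, hHcard] at h
  rw [hSp]
  omega

end CfsgLib.CosetEnum.HeSp
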