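import Cfsg.Agent.CosetEnum.HeSp.Data

set_option autoImplicit false
set_option maxRecDepth 100000
set_option Elab.async false

/-! Lower bound for the group on 85 blocks (generated certificate). -/

namespace CfsgLib.CosetEnum.HeSp

theorem img_p7 {G : Type*} [Group G] (ψ : G →* Equiv.Perm (Fin 85)) (hψ : ∀ s, s < 7 → IsImg ψ (gTab s)) : IsImg ψ p7 :=
  IsImg.comp (hψ 6 (show 6 < 7 by decide)) (hψ 0 (show 0 < 7 by decide)) (d := 7) (show 85 ≤ 2 ^ 7 by decide) comp7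

theorem img_p38 {G : Type*} [Group G] (ψ : G →* Equiv.Perm (Fin 85)) (hψ : ∀ s, s < 7 → IsImg ψ (gTab s)) : IsImg ψ p38 :=
  IsImg.comp (hψ 2 (show 2 < 7 by decide)) (hψ 4 (show 4 < 7 by decide)) (d := 7) (show 85 ≤ 2 ^ 7 by decide) comp38

theorem img_p109 {G : Type*} [Group G] (ψ : G →* Equiv.Perm (Fin 85)) (hψ : ∀ s, s < 7 → IsImg ψ (gTab s)) : IsImg ψ p109 :=
  IsImg.comp (hψ 1 (show 1 < 7 by decide)) (hψ 2 (show 2 < 7 by decide)) (d := 7) (show 85 ≤ 2 ^ 7 by decide) comp109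

theorem img_p110 {G : Type*} [Group G] (ψ : G →* Equiv.Perm (Fin 85)) (hψ : ∀ s, s < 7 → IsImg ψ (gTab s)) : IsImg ψ p110 :=
  IsImg.comp (hψ 2 (show 2 < 7 by decide)) (hψ 5 (show 5 < 7 by decide)) (d := 7) (show 85 ≤ 2 ^ 7 by decide) comp110

theorem img_p111 {G : Type*} [Group G] (ψ : G →* Equiv.Perm (Fin 85)) (hψ : ∀ s, s < 7 → IsImg ψ (gTab s)) : IsImg ψ p111 :=
  IsImg.comp (hψ 4 (show 4 < 7 by decide)) (img_p110 ψ hψ) (d := 7) (show 85 ≤ 2 ^ 7 by decide) comp111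

theorem img_p112 {G : Type*} [Group G] (ψ : G →* Equiv.Perm (Fin 85)) (hψ : ∀ s, s < 7 → IsImg ψ (gTab s)) : IsImg ψ p112 :=
  IsImg.comp (hψ 3 (show 3 < 7 by decide)) (img_p111 ψ hψ) (d := 7) (show 85 ≤ 2 ^ 7 by decide) comp112

theorem img_p113 {G : Type*} [Group G] (ψ : G →* Equiv.Perm (Fin 85)) (hψ : ∀ s, s < 7 → IsImg ψ (gTab s)) : IsImg ψ p113 :=
  IsImg.comp (img_p110 ψ hψ) (img_p112 ψ hψ) (d := 7) (show 85 ≤ 2 ^ 7 by decide) comp113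

theorem img_p115 {G : Type*} [Group G] (ψ : G →* Equiv.Perm (Fin 85)) (hψ : ∀ s, s < 7 → IsImg ψ (gTab s)) : IsImg ψ p115 :=
  IsImg.comp (hψ 0 (show 0 < 7 by decide)) (img_p111 ψ hψ) (d := 7) (show 85 ≤ 2 ^ 7 by decide) comp115

theorem img_p116 {G : Type*} [Group G] (ψ : G →* Equiv.Perm (Fin 85)) (hψ : ∀ s, s < 7 → IsImg ψ (gTab s)) : IsImg ψ p116 :=
  IsImg.comp (img_p111 ψ hψ) (img_p113 ψ hψ) (d := 7) (show 85 ≤ 2 ^ 7 by decide) comp116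

theorem img_p117 {G : Type*} [Group G] (ψ : G →* Equiv.Perm (Fin 85)) (hψ : ∀ s, s < 7 → IsImg ψ (gTab s)) : IsImg ψ p117 :=
  IsImg.comp (img_p115 ψ hψ) (img_p113 ψ hψ) (d := 7) (show 85 ≤ 2 ^ 7 by decide) comp117

theorem img_p118 {G : Type*} [Group G] (ψ : G →* Equiv.Perm (Fin 85)) (hψ : ∀ s, s < 7 → IsImg ψ (gTab s)) : IsImg ψ p118 :=
  IsImg.comp (img_p7 ψ hψ) (img_p112 ψ hψ) (d := 7) (show 85 ≤ 2 ^ 7 by decide) comp118

theorem img_p119 {G : Type*} [Group G] (ψ : G →* Equiv.Perm (Fin 85)) (hψ : ∀ s, s < 7 → IsImg ψ (gTab s)) : IsImg ψ p119 :=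
  IsImg.comp (img_p113 ψ hψ) (img_p38 ψ hψ) (d := 7) (show 85 ≤ 2 ^ 7 by decide) comp119

theorem img_p120 {G : Type*} [Group G] (ψ : G →* Equiv.Perm (Fin 85)) (hψ : ∀ s, s < 7 → IsImg ψ (gTab s)) : IsImg ψ p120 :=
  IsImg.comp (img_p119 ψ hψ) (img_p109 ψ hψ) (d := 7) (show 85 ≤ 2 ^ 7 by decide) comp120

theorem img_p121 {G : Type*} [Group G] (ψ : G →* Equiv.Perm (Fin 85)) (hψ : ∀ s, s < 7 → IsImg ψ (gTab s)) : IsImg ψ p121 :=
  IsImg.comp (img_p112 ψ hψ) (img_p116 ψ hψ) (d := 7) (show 85 ≤ 2 ^ 7 by decide) comp121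

theorem img_p122 {G : Type*} [Group G] (ψ : G →* Equiv.Perm (Fin 85)) (hψ : ∀ s, s < 7 → IsImg ψ (gTab s)) : IsImg ψ p122 :=
  IsImg.comp (img_p120 ψ hψ) (img_p117 ψ hψ) (d := 7) (show 85 ≤ 2 ^ 7 by decide) comp122

theorem img_p123 {G : Type*} [Group G] (ψ : G →* Equiv.Perm (Fin 85)) (hψ : ∀ s, s < 7 → IsImg ψ (gTab s)) : IsImg ψ p123 :=
  IsImg.comp (img_p122 ψ hψ) (img_p109 ψ hψ) (d := 7) (show 85 ≤ 2 ^ 7 by decide) comp123

theorem img_p124 {G : Type*} [Group G] (ψ : G →* Equiv.Perm (Fin 85)) (hψ : ∀ s, s < 7 → IsImg ψ (gTab s)) : IsImg ψ p124 :=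
  IsImg.comp (img_p123 ψ hψ) (img_p121 ψ hψ) (d := 7) (show 85 ≤ 2 ^ 7 by decide) comp124

theorem img_p125 {G : Type*} [Group G] (ψ : G →* Equiv.Perm (Fin 85)) (hψ : ∀ s, s < 7 → IsImg ψ (gTab s)) : IsImg ψ p125 :=
  IsImg.comp (img_p118 ψ hψ) (img_p124 ψ hψ) (d := 7) (show 85 ≤ 2 ^ 7 by decide) comp125

theorem img_p126 {G : Type*} [Group G] (ψ : G →* Equiv.Perm (Fin 85)) (hψ : ∀ s, s < 7 → IsImg ψ (gTab s)) : IsImg ψ p126 :=
  IsImg.comp (img_p117 ψ hψ) (img_p109 ψ hψ) (d := 7) (show 85 ≤ 2 ^ 7 by decide) comp126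

theorem img_p127 {G : Type*} [Group G] (ψ : G →* Equiv.Perm (Fin 85)) (hψ : ∀ s, s < 7 → IsImg ψ (gTab s)) : IsImg ψ p127 :=
  IsImg.comp (img_p126 ψ hψ) (hψ 1 (show 1 < 7 by decide)) (d := 7) (show 85 ≤ 2 ^ 7 by decide) comp127

theorem img_p128 {G : Type*} [Group G] (ψ : G →* Equiv.Perm (Fin 85)) (hψ : ∀ s, s < 7 → IsImg ψ (gTab s)) : IsImg ψ p128 :=
  IsImg.comp (img_p127 ψ hψ) (hψ 3 (show 3 < 7 by decide)) (d := 7) (show 85 ≤ 2 ^ 7 by decide) comp128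

theorem img_p129 {G : Type*} [Group G] (ψ : G →* Equiv.Perm (Fin 85)) (hψ : ∀ s, s < 7 → IsImg ψ (gTab s)) : IsImg ψ p129 :=
  IsImg.comp (img_p128 ψ hψ) (hψ 2 (show 2 < 7 by decide)) (d := 7) (show 85 ≤ 2 ^ 7 by decide) comp129

theorem img_p130 {G : Type*} [Group G] (ψ : G →* Equiv.Perm (Fin 85)) (hψ : ∀ s, s < 7 → IsImg ψ (gTab s)) : IsImg ψ p130 :=
  IsImg.comp (img_p118 ψ hψ) (img_p125 ψ hψ) (d := 7) (show 85 ≤ 2 ^ 7 by decide) comp130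

theorem img_p131 {G : Type*} [Group G] (ψ : G →* Equiv.Perm (Fin 85)) (hψ : ∀ s, s < 7 → IsImg ψ (gTab s)) : IsImg ψ p131 :=
  IsImg.comp (img_p126 ψ hψ) (img_p125 ψ hψ) (d := 7) (show 85 ≤ 2 ^ 7 by decide) comp131

theorem img_p132 {G : Type*} [Group G] (ψ : G →* Equiv.Perm (Fin 85)) (hψ : ∀ s, s < 7 → IsImg ψ (gTab s)) : IsImg ψ p132 :=
  IsImg.comp (img_p131 ψ hψ) (hψ 3 (show 3 < 7 by decide)) (d := 7) (show 85 ≤ 2 ^ 7 by decide) comp132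

theorem img_p133 {G : Type*} [Group G] (ψ : G →* Equiv.Perm (Fin 85)) (hψ : ∀ s, s < 7 → IsImg ψ (gTab s)) : IsImg ψ p133 :=
  IsImg.comp (img_p132 ψ hψ) (hψ 4 (show 4 < 7 by decide)) (d := 7) (show 85 ≤ 2 ^ 7 by decide) comp133

theorem img_p134 {G : Type*} [Group G] (ψ : G →* Equiv.Perm (Fin 85)) (hψ : ∀ s, s < 7 → IsImg ψ (gTab s)) : IsImg ψ p134 :=
  IsImg.comp (img_p133 ψ hψ) (hψ 6 (show 6 < 7 by decide)) (d := 7) (show 85 ≤ 2 ^ 7 by decide) comp134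

theorem img_p135 {G : Type*} [Group G] (ψ : G →* Equiv.Perm (Fin 85)) (hψ : ∀ s, s < 7 → IsImg ψ (gTab s)) : IsImg ψ p135 :=
  IsImg.comp (img_p134 ψ hψ) (hψ 2 (show 2 < 7 by decide)) (d := 7) (show 85 ≤ 2 ^ 7 by decide) comp135

theorem img_p136 {G : Type*} [Group G] (ψ : G →* Equiv.Perm (Fin 85)) (hψ : ∀ s, s < 7 → IsImg ψ (gTab s)) : IsImg ψ p136 :=
  IsImg.comp (img_p135 ψ hψ) (hψ 1 (show 1 < 7 by decide)) (d := 7) (show 85 ≤ 2 ^ 7 by decide) comp136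

theorem img_p137 {G : Type*} [Group G] (ψ : G →* Equiv.Perm (Fin 85)) (hψ : ∀ s, s < 7 → IsImg ψ (gTab s)) : IsImg ψ p137 :=
  IsImg.comp (img_p136 ψ hψ) (hψ 4 (show 4 < 7 by decide)) (d := 7) (show 85 ≤ 2 ^ 7 by decide) comp137

theorem img_p138 {G : Type*} [Group G] (ψ : G →* Equiv.Perm (Fin 85)) (hψ : ∀ s, s < 7 → IsImg ψ (gTab s)) : IsImg ψ p138 :=
  IsImg.comp (img_p137 ψ hψ) (hψ 6 (show 6 < 7 by decide)) (d := 7) (show 85 ≤ 2 ^ 7 by decide) comp138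

theorem img_p139 {G : Type*} [Group G] (ψ : G →* Equiv.Perm (Fin 85)) (hψ : ∀ s, s < 7 → IsImg ψ (gTab s)) : IsImg ψ p139 :=
  IsImg.comp (img_p138 ψ hψ) (hψ 2 (show 2 < 7 by decide)) (d := 7) (show 85 ≤ 2 ^ 7 by decide) comp139

theorem img_p140 {G : Type*} [Group G] (ψ : G →* Equiv.Perm (Fin 85)) (hψ : ∀ s, s < 7 → IsImg ψ (gTab s)) : IsImg ψ p140 :=
  IsImg.comp (img_p121 ψ hψ) (img_p131 ψ hψ) (d := 7) (show 85 ≤ 2 ^ 7 by decide) comp140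

theorem img_p141 {G : Type*} [Group G] (ψ : G →* Equiv.Perm (Fin 85)) (hψ : ∀ s, s < 7 → IsImg ψ (gTab s)) : IsImg ψ p141 :=
  IsImg.comp (img_p140 ψ hψ) (hψ 2 (show 2 < 7 by decide)) (d := 7) (show 85 ≤ 2 ^ 7 by decide) comp141

theorem img_p142 {G : Type*} [Group G] (ψ : G →* Equiv.Perm (Fin 85)) (hψ : ∀ s, s < 7 → IsImg ψ (gTab s)) : IsImg ψ p142 :=
  IsImg.comp (img_p141 ψ hψ) (hψ 5 (show 5 < 7 by decide)) (d := 7) (show 85 ≤ 2 ^ 7 by decide) comp142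

theorem img_p143 {G : Type*} [Group G] (ψ : G →* Equiv.Perm (Fin 85)) (hψ : ∀ s, s < 7 → IsImg ψ (gTab s)) : IsImg ψ p143 :=
  IsImg.comp (img_p142 ψ hψ) (hψ 1 (show 1 < 7 by decide)) (d := 7) (show 85 ≤ 2 ^ 7 by decide) comp143

theorem img_p144 {G : Type*} [Group G] (ψ : G →* Equiv.Perm (Fin 85)) (hψ : ∀ s, s < 7 → IsImg ψ (gTab s)) : IsImg ψ p144 :=
  IsImg.comp (img_p143 ψ hψ) (hψ 2 (show 2 < 7 by decide)) (d := 7) (show 85 ≤ 2 ^ 7 by decide) comp144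

theorem img_p145 {G : Type*} [Group G] (ψ : G →* Equiv.Perm (Fin 85)) (hψ : ∀ s, s < 7 → IsImg ψ (gTab s)) : IsImg ψ p145 :=
  IsImg.comp (img_p144 ψ hψ) (hψ 1 (show 1 < 7 by decide)) (d := 7) (show 85 ≤ 2 ^ 7 by decide) comp145

theorem img_p146 {G : Type*} [Group G] (ψ : G →* Equiv.Perm (Fin 85)) (hψ : ∀ s, s < 7 → IsImg ψ (gTab s)) : IsImg ψ p146 :=
  IsImg.comp (img_p145 ψ hψ) (hψ 4 (show 4 < 7 by decide)) (d := 7) (show 85 ≤ 2 ^ 7 by decide) comp146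

theorem img_p147 {G : Type*} [Group G] (ψ : G →* Equiv.Perm (Fin 85)) (hψ : ∀ s, s < 7 → IsImg ψ (gTab s)) : IsImg ψ p147 :=
  IsImg.comp (img_p146 ψ hψ) (hψ 2 (show 2 < 7 by decide)) (d := 7) (show 85 ≤ 2 ^ 7 by decide) comp147

theorem img_p148 {G : Type*} [Group G] (ψ : G →* Equiv.Perm (Fin 85)) (hψ : ∀ s, s < 7 → IsImg ψ (gTab s)) : IsImg ψ p148 :=
  IsImg.comp (img_p147 ψ hψ) (hψ 6 (show 6 < 7 by decide)) (d := 7) (show 85 ≤ 2 ^ 7 by decide) comp148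

theorem img_p149 {G : Type*} [Group G] (ψ : G →* Equiv.Perm (Fin 85)) (hψ : ∀ s, s < 7 → IsImg ψ (gTab s)) : IsImg ψ p149 :=
  IsImg.comp (img_p38 ψ hψ) (img_p140 ψ hψ) (d := 7) (show 85 ≤ 2 ^ 7 by decide) comp149

theorem img_p150 {G : Type*} [Group G] (ψ : G →* Equiv.Perm (Fin 85)) (hψ : ∀ s, s < 7 → IsImg ψ (gTab s)) : IsImg ψ p150 :=
  IsImg.comp (img_p149 ψ hψ) (hψ 3 (show 3 < 7 by decide)) (d := 7) (show 85 ≤ 2 ^ 7 by decide) comp150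

theorem img_p151 {G : Type*} [Group G] (ψ : G →* Equiv.Perm (Fin 85)) (hψ : ∀ s, s < 7 → IsImg ψ (gTab s)) : IsImg ψ p151 :=
  IsImg.comp (img_p150 ψ hψ) (hψ 4 (show 4 < 7 by decide)) (d := 7) (show 85 ≤ 2 ^ 7 by decide) comp151

theorem img_p152 {G : Type*} [Group G] (ψ : G →* Equiv.Perm (Fin 85)) (hψ : ∀ s, s < 7 → IsImg ψ (gTab s)) : IsImg ψ p152 :=
  IsImg.comp (img_p151 ψ hψ) (hψ 6 (show 6 < 7 by decide)) (d := 7) (show 85 ≤ 2 ^ 7 by decide) comp152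

theorem img_p153 {G : Type*} [Group G] (ψ : G →* Equiv.Perm (Fin 85)) (hψ : ∀ s, s < 7 → IsImg ψ (gTab s)) : IsImg ψ p153 :=
  IsImg.comp (img_p152 ψ hψ) (hψ 2 (show 2 < 7 by decide)) (d := 7) (show 85 ≤ 2 ^ 7 by decide) comp153

theorem img_p154 {G : Type*} [Group G] (ψ : G →* Equiv.Perm (Fin 85)) (hψ : ∀ s, s < 7 → IsImg ψ (gTab s)) : IsImg ψ p154 :=
  IsImg.comp (img_p153 ψ hψ) (hψ 1 (show 1 < 7 by decide)) (d := 7) (show 85 ≤ 2 ^ 7 by decide) comp154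

theorem img_p155 {G : Type*} [Group G] (ψ : G →* Equiv.Perm (Fin 85)) (hψ : ∀ s, s < 7 → IsImg ψ (gTab s)) : IsImg ψ p155 :=
  IsImg.comp (img_p154 ψ hψ) (hψ 4 (show 4 < 7 by decide)) (d := 7) (show 85 ≤ 2 ^ 7 by decide) comp155

theorem img_p156 {G : Type*} [Group G] (ψ : G →* Equiv.Perm (Fin 85)) (hψ : ∀ s, s < 7 → IsImg ψ (gTab s)) : IsImg ψ p156 :=
  IsImg.comp (img_p155 ψ hψ) (hψ 6 (show 6 < 7 by decide)) (d := 7) (show 85 ≤ 2 ^ 7 by decide) comp156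

theorem img_p157 {G : Type*} [Group G] (ψ : G →* Equiv.Perm (Fin 85)) (hψ : ∀ s, s < 7 → IsImg ψ (gTab s)) : IsImg ψ p157 :=
  IsImg.comp (img_p156 ψ hψ) (hψ 2 (show 2 < 7 by decide)) (d := 7) (show 85 ≤ 2 ^ 7 by decide) comp157

theorem img_p158 {G : Type*} [Group G] (ψ : G →* Equiv.Perm (Fin 85)) (hψ : ∀ s, s < 7 → IsImg ψ (gTab s)) : IsImg ψ p158 :=
  IsImg.comp (img_p157 ψ hψ) (img_p129 ψ hψ) (d := 7) (show 85 ≤ 2 ^ 7 by decide) comp158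

theorem img_p159 {G : Type*} [Group G] (ψ : G →* Equiv.Perm (Fin 85)) (hψ : ∀ s, s < 7 → IsImg ψ (gTab s)) : IsImg ψ p159 :=
  IsImg.comp (img_p139 ψ hψ) (img_p148 ψ hψ) (d := 7) (show 85 ≤ 2 ^ 7 by decide) comp159

theorem img_p160 {G : Type*} [Group G] (ψ : G →* Equiv.Perm (Fin 85)) (hψ : ∀ s, s < 7 → IsImg ψ (gTab s)) : IsImg ψ p160 :=
  IsImg.comp (img_p148 ψ hψ) (img_p159 ψ hψ) (d := 7) (show 85 ≤ 2 ^ 7 by decide) comp160

theorem img_p161 {G : Type*} [Group G] (ψ : G →* Equiv.Perm (Fin 85)) (hψ : ∀ s, s < 7 → IsImg ψ (gTab s)) : IsImg ψ p161 :=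
  IsImg.comp (img_p158 ψ hψ) (img_p129 ψ hψ) (d := 7) (show 85 ≤ 2 ^ 7 by decide) comp161

theorem img_p162 {G : Type*} [Group G] (ψ : G →* Equiv.Perm (Fin 85)) (hψ : ∀ s, s < 7 → IsImg ψ (gTab s)) : IsImg ψ p162 :=
  IsImg.comp (img_p129 ψ hψ) (img_p160 ψ hψ) (d := 7) (show 85 ≤ 2 ^ 7 by decide) comp162

theorem img_p163 {G : Type*} [Group G] (ψ : G →* Equiv.Perm (Fin 85)) (hψ : ∀ s, s < 7 → IsImg ψ (gTab s)) : IsImg ψ p163 :=
  IsImg.comp (img_p160 ψ hψ) (img_p130 ψ hψ) (d := 7) (show 85 ≤ 2 ^ 7 by decide) comp163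

theorem img_p164 {G : Type*} [Group G] (ψ : G →* Equiv.Perm (Fin 85)) (hψ : ∀ s, s < 7 → IsImg ψ (gTab s)) : IsImg ψ p164 :=
  IsImg.comp (img_p159 ψ hψ) (img_p130 ψ hψ) (d := 7) (show 85 ≤ 2 ^ 7 by decide) comp164

theorem img_p165 {G : Type*} [Group G] (ψ : G →* Equiv.Perm (Fin 85)) (hψ : ∀ s, s < 7 → IsImg ψ (gTab s)) : IsImg ψ p165 :=
  IsImg.comp (img_p161 ψ hψ) (img_p164 ψ hψ) (d := 7) (show 85 ≤ 2 ^ 7 by decide) comp165

theorem img_p166 {G : Type*} [Group G] (ψ : G →* Equiv.Perm (Fin 85)) (hψ : ∀ s, s < 7 → IsImg ψ (gTab s)) : IsImg ψ p166 :=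
  IsImg.comp (img_p163 ψ hψ) (img_p164 ψ hψ) (d := 7) (show 85 ≤ 2 ^ 7 by decide) comp166

theorem img_p167 {G : Type*} [Group G] (ψ : G →* Equiv.Perm (Fin 85)) (hψ : ∀ s, s < 7 → IsImg ψ (gTab s)) : IsImg ψ p167 :=
  IsImg.comp (img_p164 ψ hψ) (img_p165 ψ hψ) (d := 7) (show 85 ≤ 2 ^ 7 by decide) comp167

theorem img_p168 {G : Type*} [Group G] (ψ : G →* Equiv.Perm (Fin 85)) (hψ : ∀ s, s < 7 → IsImg ψ (gTab s)) : IsImg ψ p168 :=
  IsImg.comp (img_p165 ψ hψ) (img_p162 ψ hψ) (d := 7) (show 85 ≤ 2 ^ 7 by decide) comp168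

theorem img_p169 {G : Type*} [Group G] (ψ : G →* Equiv.Perm (Fin 85)) (hψ : ∀ s, s < 7 → IsImg ψ (gTab s)) : IsImg ψ p169 :=
  IsImg.comp (img_p168 ψ hψ) (img_p162 ψ hψ) (d := 7) (show 85 ≤ 2 ^ 7 by decide) comp169

theorem img_p170 {G : Type*} [Group G] (ψ : G →* Equiv.Perm (Fin 85)) (hψ : ∀ s, s < 7 → IsImg ψ (gTab s)) : IsImg ψ p170 :=
  IsImg.comp (img_p169 ψ hψ) (img_p166 ψ hψ) (d := 7) (show 85 ≤ 2 ^ 7 by decide) comp170

theorem img_p171 {G : Type*} [Group G] (ψ : G →* Equiv.Perm (Fin 85)) (hψ : ∀ s, s < 7 → IsImg ψ (gTab s)) : IsImg ψ p171 :=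
  IsImg.comp (img_p167 ψ hψ) (img_p130 ψ hψ) (d := 7) (show 85 ≤ 2 ^ 7 by decide) comp171

theorem img_p172 {G : Type*} [Group G] (ψ : G →* Equiv.Perm (Fin 85)) (hψ : ∀ s, s < 7 → IsImg ψ (gTab s)) : IsImg ψ p172 :=
  IsImg.comp (img_p166 ψ hψ) (img_p170 ψ hψ) (d := 7) (show 85 ≤ 2 ^ 7 by decide) comp172

theorem img_p173 {G : Type*} [Group G] (ψ : G →* Equiv.Perm (Fin 85)) (hψ : ∀ s, s < 7 → IsImg ψ (gTab s)) : IsImg ψ p173 :=
  IsImg.comp (img_p171 ψ hψ) (img_p170 ψ hψ) (d := 7) (show 85 ≤ 2 ^ 7 by decide) comp173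

theorem img_p174 {G : Type*} [Group G] (ψ : G →* Equiv.Perm (Fin 85)) (hψ : ∀ s, s < 7 → IsImg ψ (gTab s)) : IsImg ψ p174 :=
  IsImg.comp (img_p129 ψ hψ) (img_p173 ψ hψ) (d := 7) (show 85 ≤ 2 ^ 7 by decide) comp174

theorem img_p176 {G : Type*} [Group G] (ψ : G →* Equiv.Perm (Fin 85)) (hψ : ∀ s, s < 7 → IsImg ψ (gTab s)) : IsImg ψ p176 :=
  IsImg.comp (img_p130 ψ hψ) (img_p174 ψ hψ) (d := 7) (show 85 ≤ 2 ^ 7 by decide) comp176

theorem img_p177 {G : Type*} [Group G] (ψ : G →* Equiv.Perm (Fin 85)) (hψ : ∀ s, s < 7 → IsImg ψ (gTab s)) : IsImg ψ p177 :=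
  IsImg.comp (img_p174 ψ hψ) (img_p170 ψ hψ) (d := 7) (show 85 ≤ 2 ^ 7 by decide) comp177

theorem img_p179 {G : Type*} [Group G] (ψ : G →* Equiv.Perm (Fin 85)) (hψ : ∀ s, s < 7 → IsImg ψ (gTab s)) : IsImg ψ p179 :=
  IsImg.comp (img_p173 ψ hψ) (img_p170 ψ hψ) (d := 7) (show 85 ≤ 2 ^ 7 by decide) comp179

theorem img_p180 {G : Type*} [Group G] (ψ : G →* Equiv.Perm (Fin 85)) (hψ : ∀ s, s < 7 → IsImg ψ (gTab s)) : IsImg ψ p180 :=
  IsImg.comp (img_p176 ψ hψ) (img_p177 ψ hψ) (d := 7) (show 85 ≤ 2 ^ 7 by decide) comp180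

theorem img_p182 {G : Type*} [Group G] (ψ : G →* Equiv.Perm (Fin 85)) (hψ : ∀ s, s < 7 → IsImg ψ (gTab s)) : IsImg ψ p182 :=
  IsImg.comp (img_p179 ψ hψ) (img_p180 ψ hψ) (d := 7) (show 85 ≤ 2 ^ 7 by decide) comp182

theorem img_p183 {G : Type*} [Group G] (ψ : G →* Equiv.Perm (Fin 85)) (hψ : ∀ s, s < 7 → IsImg ψ (gTab s)) : IsImg ψ p183 :=
  IsImg.comp (img_p182 ψ hψ) (img_p129 ψ hψ) (d := 7) (show 85 ≤ 2 ^ 7 by decide) comp183

theorem img_p184 {G : Type*} [Group G] (ψ : G →* Equiv.Perm (Fin 85)) (hψ : ∀ s, s < 7 → IsImg ψ (gTab s)) : IsImg ψ p184 :=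
  IsImg.comp (img_p183 ψ hψ) (img_p148 ψ hψ) (d := 7) (show 85 ≤ 2 ^ 7 by decide) comp184

theorem img_p185 {G : Type*} [Group G] (ψ : G →* Equiv.Perm (Fin 85)) (hψ : ∀ s, s < 7 → IsImg ψ (gTab s)) : IsImg ψ p185 :=
  IsImg.comp (img_p184 ψ hψ) (img_p148 ψ hψ) (d := 7) (show 85 ≤ 2 ^ 7 by decide) comp185

theorem img_p186 {G : Type*} [Group G] (ψ : G →* Equiv.Perm (Fin 85)) (hψ : ∀ s, s < 7 → IsImg ψ (gTab s)) : IsImg ψ p186 :=
  IsImg.comp (img_p180 ψ hψ) (img_p177 ψ hψ) (d := 7) (show 85 ≤ 2 ^ 7 by decide) comp186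

theorem img_p187 {G : Type*} [Group G] (ψ : G →* Equiv.Perm (Fin 85)) (hψ : ∀ s, s < 7 → IsImg ψ (gTab s)) : IsImg ψ p187 :=
  IsImg.comp (img_p186 ψ hψ) (img_p130 ψ hψ) (d := 7) (show 85 ≤ 2 ^ 7 by decide) comp187

theorem img_p188 {G : Type*} [Group G] (ψ : G →* Equiv.Perm (Fin 85)) (hψ : ∀ s, s < 7 → IsImg ψ (gTab s)) : IsImg ψ p188 :=
  IsImg.comp (img_p187 ψ hψ) (img_p129 ψ hψ) (d := 7) (show 85 ≤ 2 ^ 7 by decide) comp188

theorem img_p189 {G : Type*} [Group G] (ψ : G →* Equiv.Perm (Fin 85)) (hψ : ∀ s, s < 7 → IsImg ψ (gTab s)) : IsImg ψ p189 :=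
  IsImg.comp (img_p172 ψ hψ) (img_p177 ψ hψ) (d := 7) (show 85 ≤ 2 ^ 7 by decide) comp189

theorem img_p190 {G : Type*} [Group G] (ψ : G →* Equiv.Perm (Fin 85)) (hψ : ∀ s, s < 7 → IsImg ψ (gTab s)) : IsImg ψ p190 :=
  IsImg.comp (img_p189 ψ hψ) (img_p157 ψ hψ) (d := 7) (show 85 ≤ 2 ^ 7 by decide) comp190

theorem img_p191 {G : Type*} [Group G] (ψ : G →* Equiv.Perm (Fin 85)) (hψ : ∀ s, s < 7 → IsImg ψ (gTab s)) : IsImg ψ p191 :=
  IsImg.comp (img_p177 ψ hψ) (img_p182 ψ hψ) (d := 7) (show 85 ≤ 2 ^ 7 by decide) comp191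

theorem img_p192 {G : Type*} [Group G] (ψ : G →* Equiv.Perm (Fin 85)) (hψ : ∀ s, s < 7 → IsImg ψ (gTab s)) : IsImg ψ p192 :=
  IsImg.comp (img_p191 ψ hψ) (img_p139 ψ hψ) (d := 7) (show 85 ≤ 2 ^ 7 by decide) comp192

theorem img_p193 {G : Type*} [Group G] (ψ : G →* Equiv.Perm (Fin 85)) (hψ : ∀ s, s < 7 → IsImg ψ (gTab s)) : IsImg ψ p193 :=
  IsImg.comp (img_p192 ψ hψ) (img_p157 ψ hψ) (d := 7) (show 85 ≤ 2 ^ 7 by decide) comp193

theorem img_p194 {G : Type*} [Group G] (ψ : G →* Equiv.Perm (Fin 85)) (hψ : ∀ s, s < 7 → IsImg ψ (gTab s)) : IsImg ψ p194 :=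
  IsImg.comp (img_p182 ψ hψ) (img_p186 ψ hψ) (d := 7) (show 85 ≤ 2 ^ 7 by decide) comp194

theorem img_p195 {G : Type*} [Group G] (ψ : G →* Equiv.Perm (Fin 85)) (hψ : ∀ s, s < 7 → IsImg ψ (gTab s)) : IsImg ψ p195 :=
  IsImg.comp (img_p194 ψ hψ) (img_p139 ψ hψ) (d := 7) (show 85 ≤ 2 ^ 7 by decide) comp195

theorem img_p196 {G : Type*} [Group G] (ψ : G →* Equiv.Perm (Fin 85)) (hψ : ∀ s, s < 7 → IsImg ψ (gTab s)) : IsImg ψ p196 :=
  IsImg.comp (img_p195 ψ hψ) (img_p129 ψ hψ) (d := 7) (show 85 ≤ 2 ^ 7 by decide) comp196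

theorem img_p197 {G : Type*} [Group G] (ψ : G →* Equiv.Perm (Fin 85)) (hψ : ∀ s, s < 7 → IsImg ψ (gTab s)) : IsImg ψ p197 :=
  IsImg.comp (img_p196 ψ hψ) (img_p130 ψ hψ) (d := 7) (show 85 ≤ 2 ^ 7 by decide) comp197

theorem img_p198 {G : Type*} [Group G] (ψ : G →* Equiv.Perm (Fin 85)) (hψ : ∀ s, s < 7 → IsImg ψ (gTab s)) : IsImg ψ p198 :=
  IsImg.comp (img_p188 ψ hψ) (img_p185 ψ hψ) (d := 7) (show 85 ≤ 2 ^ 7 by decide) comp198

theorem img_p200 {G : Type*} [Group G] (ψ : G →* Equiv.Perm (Fin 85)) (hψ : ∀ s, s < 7 → IsImg ψ (gTab s)) : IsImg ψ p200 :=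
  IsImg.comp (img_p190 ψ hψ) (img_p185 ψ hψ) (d := 7) (show 85 ≤ 2 ^ 7 by decide) comp200

theorem img_p201 {G : Type*} [Group G] (ψ : G →* Equiv.Perm (Fin 85)) (hψ : ∀ s, s < 7 → IsImg ψ (gTab s)) : IsImg ψ p201 :=
  IsImg.comp (img_p198 ψ hψ) (img_p185 ψ hψ) (d := 7) (show 85 ≤ 2 ^ 7 by decide) comp201

theorem img_p202 {G : Type*} [Group G] (ψ : G →* Equiv.Perm (Fin 85)) (hψ : ∀ s, s < 7 → IsImg ψ (gTab s)) : IsImg ψ p202 :=
  IsImg.comp (img_p185 ψ hψ) (img_p201 ψ hψ) (d := 7) (show 85 ≤ 2 ^ 7 by decide) comp202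

theorem img_p203 {G : Type*} [Group G] (ψ : G →* Equiv.Perm (Fin 85)) (hψ : ∀ s, s < 7 → IsImg ψ (gTab s)) : IsImg ψ p203 :=
  IsImg.comp (img_p193 ψ hψ) (img_p197 ψ hψ) (d := 7) (show 85 ≤ 2 ^ 7 by decide) comp203

theorem img_p204 {G : Type*} [Group G] (ψ : G →* Equiv.Perm (Fin 85)) (hψ : ∀ s, s < 7 → IsImg ψ (gTab s)) : IsImg ψ p204 :=
  IsImg.comp (img_p201 ψ hψ) (img_p201 ψ hψ) (d := 7) (show 85 ≤ 2 ^ 7 by decide) comp204

theorem img_p205 {G : Type*} [Group G] (ψ : G →* Equiv.Perm (Fin 85)) (hψ : ∀ s, s < 7 → IsImg ψ (gTab s)) : IsImg ψ p205 :=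
  IsImg.comp (img_p201 ψ hψ) (img_p200 ψ hψ) (d := 7) (show 85 ≤ 2 ^ 7 by decide) comp205

theorem img_p207 {G : Type*} [Group G] (ψ : G →* Equiv.Perm (Fin 85)) (hψ : ∀ s, s < 7 → IsImg ψ (gTab s)) : IsImg ψ p207 :=
  IsImg.comp (img_p200 ψ hψ) (img_p202 ψ hψ) (d := 7) (show 85 ≤ 2 ^ 7 by decide) comp207

theorem img_p208 {G : Type*} [Group G] (ψ : G →* Equiv.Perm (Fin 85)) (hψ : ∀ s, s < 7 → IsImg ψ (gTab s)) : IsImg ψ p208 :=
  IsImg.comp (img_p203 ψ hψ) (img_p205 ψ hψ) (d := 7) (show 85 ≤ 2 ^ 7 by decide) comp208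

theorem img_p209 {G : Type*} [Group G] (ψ : G →* Equiv.Perm (Fin 85)) (hψ : ∀ s, s < 7 → IsImg ψ (gTab s)) : IsImg ψ p209 :=
  IsImg.comp (img_p207 ψ hψ) (img_p208 ψ hψ) (d := 7) (show 85 ≤ 2 ^ 7 by decide) comp209

theorem img_p211 {G : Type*} [Group G] (ψ : G →* Equiv.Perm (Fin 85)) (hψ : ∀ s, s < 7 → IsImg ψ (gTab s)) : IsImg ψ p211 :=
  IsImg.comp (img_p202 ψ hψ) (img_p205 ψ hψ) (d := 7) (show 85 ≤ 2 ^ 7 by decide) comp211

theorem img_p212 {G : Type*} [Group G] (ψ : G →* Equiv.Perm (Fin 85)) (hψ : ∀ s, s < 7 → IsImg ψ (gTab s)) : IsImg ψ p212 :=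
  IsImg.comp (img_p209 ψ hψ) (img_p208 ψ hψ) (d := 7) (show 85 ≤ 2 ^ 7 by decide) comp212

theorem img_p214 {G : Type*} [Group G] (ψ : G →* Equiv.Perm (Fin 85)) (hψ : ∀ s, s < 7 → IsImg ψ (gTab s)) : IsImg ψ p214 :=
  IsImg.comp (img_p208 ψ hψ) (img_p204 ψ hψ) (d := 7) (show 85 ≤ 2 ^ 7 by decide) comp214

theorem img_p215 {G : Type*} [Group G] (ψ : G →* Equiv.Perm (Fin 85)) (hψ : ∀ s, s < 7 → IsImg ψ (gTab s)) : IsImg ψ p215 :=
  IsImg.comp (img_p205 ψ hψ) (img_p212 ψ hψ) (d := 7) (show 85 ≤ 2 ^ 7 by decide) comp215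

theorem img_p216 {G : Type*} [Group G] (ψ : G →* Equiv.Perm (Fin 85)) (hψ : ∀ s, s < 7 → IsImg ψ (gTab s)) : IsImg ψ p216 :=
  IsImg.comp (img_p215 ψ hψ) (img_p211 ψ hψ) (d := 7) (show 85 ≤ 2 ^ 7 by decide) comp216

theorem img_p217 {G : Type*} [Group G] (ψ : G →* Equiv.Perm (Fin 85)) (hψ : ∀ s, s < 7 → IsImg ψ (gTab s)) : IsImg ψ p217 :=
  IsImg.comp (img_p214 ψ hψ) (img_p204 ψ hψ) (d := 7) (show 85 ≤ 2 ^ 7 by decide) comp217

theorem img_p220 {G : Type*} [Group G] (ψ : G →* Equiv.Perm (Fin 85)) (hψ : ∀ s, s < 7 → IsImg ψ (gTab s)) : IsImg ψ p220 :=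
  IsImg.comp (img_p190 ψ hψ) (img_p190 ψ hψ) (d := 7) (show 85 ≤ 2 ^ 7 by decide) comp220

theorem img_p221 {G : Type*} [Group G] (ψ : G →* Equiv.Perm (Fin 85)) (hψ : ∀ s, s < 7 → IsImg ψ (gTab s)) : IsImg ψ p221 :=
  IsImg.comp (img_p217 ψ hψ) (img_p211 ψ hψ) (d := 7) (show 85 ≤ 2 ^ 7 by decide) comp221

theorem img_p223 {G : Type*} [Group G] (ψ : G →* Equiv.Perm (Fin 85)) (hψ : ∀ s, s < 7 → IsImg ψ (gTab s)) : IsImg ψ p223 :=
  IsImg.comp (img_p216 ψ hψ) (img_p185 ψ hψ) (d := 7) (show 85 ≤ 2 ^ 7 by decide) comp223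

theorem img_p224 {G : Type*} [Group G] (ψ : G →* Equiv.Perm (Fin 85)) (hψ : ∀ s, s < 7 → IsImg ψ (gTab s)) : IsImg ψ p224 :=
  IsImg.comp (img_p223 ψ hψ) (img_p190 ψ hψ) (d := 7) (show 85 ≤ 2 ^ 7 by decide) comp224

theorem img_p225 {G : Type*} [Group G] (ψ : G →* Equiv.Perm (Fin 85)) (hψ : ∀ s, s < 7 → IsImg ψ (gTab s)) : IsImg ψ p225 :=
  IsImg.comp (img_p224 ψ hψ) (img_p193 ψ hψ) (d := 7) (show 85 ≤ 2 ^ 7 by decide) comp225

theorem img_p226 {G : Type*} [Group G] (ψ : G →* Equiv.Perm (Fin 85)) (hψ : ∀ s, s < 7 → IsImg ψ (gTab s)) : IsImg ψ p226 :=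
  IsImg.comp (img_p204 ψ hψ) (img_p212 ψ hψ) (d := 7) (show 85 ≤ 2 ^ 7 by decide) comp226

theorem img_p227 {G : Type*} [Group G] (ψ : G →* Equiv.Perm (Fin 85)) (hψ : ∀ s, s < 7 → IsImg ψ (gTab s)) : IsImg ψ p227 :=
  IsImg.comp (img_p226 ψ hψ) (img_p185 ψ hψ) (d := 7) (show 85 ≤ 2 ^ 7 by decide) comp227

theorem img_p228 {G : Type*} [Group G] (ψ : G →* Equiv.Perm (Fin 85)) (hψ : ∀ s, s < 7 → IsImg ψ (gTab s)) : IsImg ψ p228 :=
  IsImg.comp (img_p227 ψ hψ) (img_p197 ψ hψ) (d := 7) (show 85 ≤ 2 ^ 7 by decide) comp228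

theorem img_p229 {G : Type*} [Group G] (ψ : G →* Equiv.Perm (Fin 85)) (hψ : ∀ s, s < 7 → IsImg ψ (gTab s)) : IsImg ψ p229 :=
  IsImg.comp (img_p228 ψ hψ) (img_p190 ψ hψ) (d := 7) (show 85 ≤ 2 ^ 7 by decide) comp229

theorem img_p230 {G : Type*} [Group G] (ψ : G →* Equiv.Perm (Fin 85)) (hψ : ∀ s, s < 7 → IsImg ψ (gTab s)) : IsImg ψ p230 :=
  IsImg.comp (img_p212 ψ hψ) (img_p211 ψ hψ) (d := 7) (show 85 ≤ 2 ^ 7 by decide) comp230

theorem img_p231 {G : Type*} [Group G] (ψ : G →* Equiv.Perm (Fin 85)) (hψ : ∀ s, s < 7 → IsImg ψ (gTab s)) : IsImg ψ p231 :=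
  IsImg.comp (img_p230 ψ hψ) (img_p185 ψ hψ) (d := 7) (show 85 ≤ 2 ^ 7 by decide) comp231

theorem img_p232 {G : Type*} [Group G] (ψ : G →* Equiv.Perm (Fin 85)) (hψ : ∀ s, s < 7 → IsImg ψ (gTab s)) : IsImg ψ p232 :=
  IsImg.comp (img_p231 ψ hψ) (img_p197 ψ hψ) (d := 7) (show 85 ≤ 2 ^ 7 by decide) comp232

theorem img_p233 {G : Type*} [Group G] (ψ : G →* Equiv.Perm (Fin 85)) (hψ : ∀ s, s < 7 → IsImg ψ (gTab s)) : IsImg ψ p233 :=
  IsImg.comp (img_p232 ψ hψ) (img_p188 ψ hψ) (d := 7) (show 85 ≤ 2 ^ 7 by decide) comp233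

theorem img_p234 {G : Type*} [Group G] (ψ : G →* Equiv.Perm (Fin 85)) (hψ : ∀ s, s < 7 → IsImg ψ (gTab s)) : IsImg ψ p234 :=
  IsImg.comp (img_p216 ψ hψ) (img_p221 ψ hψ) (d := 7) (show 85 ≤ 2 ^ 7 by decide) comp234

theorem img_p235 {G : Type*} [Group G] (ψ : G →* Equiv.Perm (Fin 85)) (hψ : ∀ s, s < 7 → IsImg ψ (gTab s)) : IsImg ψ p235 :=
  IsImg.comp (img_p234 ψ hψ) (img_p185 ψ hψ) (d := 7) (show 85 ≤ 2 ^ 7 by decide) comp235

theorem img_p236 {G : Type*} [Group G] (ψ : G →* Equiv.Perm (Fin 85)) (hψ : ∀ s, s < 7 → IsImg ψ (gTab s)) : IsImg ψ p236 :=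
  IsImg.comp (img_p235 ψ hψ) (img_p197 ψ hψ) (d := 7) (show 85 ≤ 2 ^ 7 by decide) comp236

theorem img_p237 {G : Type*} [Group G] (ψ : G →* Equiv.Perm (Fin 85)) (hψ : ∀ s, s < 7 → IsImg ψ (gTab s)) : IsImg ψ p237 :=
  IsImg.comp (img_p236 ψ hψ) (img_p188 ψ hψ) (d := 7) (show 85 ≤ 2 ^ 7 by decide) comp237

/-- Strong elements of level 0. -/
noncomputable def sg0 (x : ℕ) : ℕ := (Bool.rec (motive := fun _ => ℕ) (Bool.rec (motive := fun _ => ℕ) p0 (Bool.rec (motive := fun _ => ℕ) p1 p2 (Nat.ble 2 x)) (Nat.ble 1 x)) (Bool.rec (motive := fun _ => ℕ) (Bool.rec (motive := fun _ => ℕ) p3 p4 (Nat.ble 4 x)) (Bool.rec (motive := fun _ => ℕ) p5 p6 (Nat.ble 6 x)) (Nat.ble 5 x)) (Nat.ble 3 x))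

def st0 : ℕ := 0x100000000010000000001000000000100000000010000000001000000000100000000010000000001000000000100000000010000000001000000000100000000010000000001000000000100000000010000000001000000000100000000010000000001000000000100000000010000000001000000000100000000010000000001000000000100000000010000000001000000000100000000010000000001000000000100000000010000000001000000000100000000010000000001000000000100000000010000000001000000000100000000010000000000000011020000003904000000470100000040030000001f060000000d0200000042040000005406000000540100000019050000001a060000001a0500000053040000005303000000480400000048030000002d040000004f040000004e060000004e020000001c060000001c050000004c04000000320400000032020000000e0600000049020000001b050000001b040000001b030000004d020000004a020000000f040000000f010000003b060000001005000000100300000010020000001304000000130300000014060000001405000000140300000014020000003a030000003a010000004103000000410100000024020000002e030000002e01000000310600000031030000003101000000270600000027020000002c020000003806000000380200000007020000003f0200000035040000003e0400000046060000002504000000450400000052040000002a040000002a02000000040600000005040000000501000000090400000009030000000306000000020600000002020000001602000000160000000001060000000103000000010100000000060000000002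

def orb0 : ℕ := 0x1fffffffffffffffffffff

theorem reach0_eq : reach sg0 (fun s => if s < 7 then [s] else []) 7 st0 0 = orb0 := by decide +kernel

theorem count0_eq : cntR (fun j => bit orb0 j) 7 0 = 85 := by decide +kernel

theorem level0 {G : Type*} [Group G] (ψ : G →* Equiv.Perm (Fin 85)) (hψ : ∀ s, s < 7 → IsImg ψ (gTab s))
    (m' : ℕ) (h : m' ≤ Nat.card (fixK ψ (0 :: []))) : 85 * m' ≤ Nat.card (fixK ψ []) :=
  level (ns := 7) sg0 (d := 7) (dR := 7) (steps := st0) (R := orb0) (show 85 ≤ 2 ^ 7 by decide) (show 0 < 85 by decide)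
    (by intro s hs; interval_cases s; exacts [(hψ 0 (show 0 < 7 by decide)), (hψ 1 (show 1 < 7 by decide)), (hψ 2 (show 2 < 7 by decide)), (hψ 3 (show 3 < 7 by decide)), (hψ 4 (show 4 < 7 by decide)), (hψ 5 (show 5 < 7 by decide)), (hψ 6 (show 6 < 7 by decide))])
    (by intro s hs; interval_cases s <;> decide +kernel)
    reach0_eq count0_eq (show orb0 < 2 ^ 85 by decide +kernel) h

/-- Strong elements of level 1. -/
noncomputable def sg1 (x : ℕ) : ℕ := (Bool.rec (motive := fun _ => ℕ) (Bool.rec (motive := fun _ => ℕ) p129 p130 (Nat.ble 1 x)) (Bool.rec (motive := fun _ => ℕ) p139 (Bool.rec (motive := fun _ => ℕ) p148 p157 (Nat.ble 4 x)) (Nat.ble 3 x)) (Nat.ble 2 x))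

def st1 : ℕ := 0x1000000000000004902000000400200000030030000003001000000100400000051010000004a040000004a030000004a020000004a010000004a00000000090300000009000000004203000000420000000047030000003c000000003a020000003a010000002a040000002a020000002a000000003f040000003f01000000130100000013000000004602000000460000000029040000000f040000000f030000000f010000000f0000000048000000002503000000250100000025000000004c010000004c000000000a040000000a030000000a010000000a0000000007040000000703000000070200000007010000000700000000440400000044030000004402000000440100000044000000004504000000450300000045020000004501000000450000000005040000000503000000050200000005010000000500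

def orb1 : ℕ := 0x1fffffffffffe0001fffe0

theorem reach1_eq : reach sg1 (fun s => if s < 5 then [s] else []) 6 st1 5 = orb1 := by decide +kernel

theorem count1_eq : cntR (fun j => bit orb1 j) 7 0 = 64 := by decide +kernel

theorem level1 {G : Type*} [Group G] (ψ : G →* Equiv.Perm (Fin 85)) (hψ : ∀ s, s < 7 → IsImg ψ (gTab s))
    (m' : ℕ) (h : m' ≤ Nat.card (fixK ψ (5 :: [0]))) : 64 * m' ≤ Nat.card (fixK ψ [0]) :=
  level (ns := 5) sg1 (d := 7) (dR := 6) (steps := st1) (R := orb1) (show 85 ≤ 2 ^ 7 by decide) (show 5 < 85 by decide)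
    (by intro s hs; interval_cases s; exacts [(img_p129 ψ hψ), (img_p130 ψ hψ), (img_p139 ψ hψ), (img_p148 ψ hψ), (img_p157 ψ hψ)])
    (by intro s hs; interval_cases s <;> decide +kernel)
    reach1_eq count1_eq (show orb1 < 2 ^ 85 by decide +kernel) h

/-- Strong elements of level 2. -/
noncomputable def sg2 (x : ℕ) : ℕ := (Bool.rec (motive := fun _ => ℕ) (Bool.rec (motive := fun _ => ℕ) p185 p188 (Nat.ble 1 x)) (Bool.rec (motive := fun _ => ℕ) p190 (Bool.rec (motive := fun _ => ℕ) p193 p197 (Nat.ble 4 x)) (Nat.ble 3 x)) (Nat.ble 2 x))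

def st2 : ℕ := 0x10000000001000000000100000000010000000001000000000100000000010000000001000000000100000000010000000001000000000100000000010000000001000000000100000000010000000001000000000100000000010000000001000000000000000b040000004e02000000460200000046000000003e030000003e000000002e04000000120400000012000000003b040000003b01000000320400000032000000002a040000002a020000002a000000004c040000004c010000003704000000370200000037000000003f040000003f020000003f010000004f040000004f030000004f020000004f010000004f000000001304000000130100000013000000000f030000000f020000000f0000000052040000005202000000520100000052000000000a040000000a030000000a020000000a010000000a00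

def orb2 : ℕ := 0x1dddddddddddc0001ddc00

theorem reach2_eq : reach sg2 (fun s => if s < 5 then [s] else []) 6 st2 10 = orb2 := by decide +kernel

theorem count2_eq : cntR (fun j => bit orb2 j) 7 0 = 45 := by decide +kernel

theorem level2 {G : Type*} [Group G] (ψ : G →* Equiv.Perm (Fin 85)) (hψ : ∀ s, s < 7 → IsImg ψ (gTab s))
    (m' : ℕ) (h : m' ≤ Nat.card (fixK ψ (10 :: [5, 0]))) : 45 * m' ≤ Nat.card (fixK ψ [5, 0]) :=
  level (ns := 5) sg2 (d := 7) (dR := 6) (steps := st2) (R := orb2) (show 85 ≤ 2 ^ 7 by decide) (show 10 < 85 by decide)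
    (by intro s hs; interval_cases s; exacts [(img_p185 ψ hψ), (img_p188 ψ hψ), (img_p190 ψ hψ), (img_p193 ψ hψ), (img_p197 ψ hψ)])
    (by intro s hs; interval_cases s <;> decide +kernel)
    reach2_eq count2_eq (show orb2 < 2 ^ 85 by decide +kernel) h

/-- Strong elements of level 3. -/
noncomputable def sg3 (x : ℕ) : ℕ := (Bool.rec (motive := fun _ => ℕ) (Bool.rec (motive := fun _ => ℕ) p220 p225 (Nat.ble 1 x)) (Bool.rec (motive := fun _ => ℕ) p229 (Bool.rec (motive := fun _ => ℕ) p233 p237 (Nat.ble 4 x)) (Nat.ble 3 x)) (Nat.ble 2 x))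

def st3 : ℕ := 0x1000000000000001b030000001b0200000017040000001703000000170200000017010000001700

def orb3 : ℕ := 0x1999800000

theorem reach3_eq : reach sg3 (fun s => if s < 5 then [s] else []) 3 st3 23 = orb3 := by decide +kernel

theorem count3_eq : cntR (fun j => bit orb3 j) 7 0 = 8 := by decide +kernel

theorem level3 {G : Type*} [Group G] (ψ : G →* Equiv.Perm (Fin 85)) (hψ : ∀ s, s < 7 → IsImg ψ (gTab s))
    (m' : ℕ) (h : m' ≤ Nat.card (fixK ψ (23 :: [10, 5, 0]))) : 8 * m' ≤ Nat.card (fixK ψ [10, 5, 0]) :=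
  level (ns := 5) sg3 (d := 7) (dR := 3) (steps := st3) (R := orb3) (show 85 ≤ 2 ^ 7 by decide) (show 23 < 85 by decide)
    (by intro s hs; interval_cases s; exacts [(img_p220 ψ hψ), (img_p225 ψ hψ), (img_p229 ψ hψ), (img_p233 ψ hψ), (img_p237 ψ hψ)])
    (by intro s hs; interval_cases s <;> decide +kernel)
    reach3_eq count3_eq (show orb3 < 2 ^ 85 by decide +kernel) h

theorem card_range_ge_order {G : Type*} [Group G] (ψ : G →* Equiv.Perm (Fin 85)) (hψ : ∀ s, s < 7 → IsImg ψ (gTab s)) :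
    1958400 ≤ Nat.card ψ.range :=
  card_range_ge ψ _ (le_trans (by decide +kernel) (level0 ψ hψ _ (level1 ψ hψ _ (level2 ψ hψ _ (level3 ψ hψ _ (one_le_card_fixK ψ _))))))

end CfsgLib.CosetEnum.HeSp
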